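import Groth.Agent.H1BlowPB.Frame
import Groth.Agent.H1KoszSq.Basic
import Groth.Agent.EulerPB.Affine
import Groth.Agent.BlowUpLib.Local
import Groth.Agent.BlowLCI.Chart
import Groth.Agent.Boundary.Components
import Groth.Agent.ExistEasy.PP.PullSec
import Groth.Prelude.Def_BlowUp2

/-!
# The blowing up in the projective bundle: charts
-/

noncomputable section

set_option linter.style.haveILetI false
set_option linter.unusedSectionVars false
set_option backward.isDefEq.respectTransparency false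
set_option backward.isDefEq.respectTransparency.types false

universe u

open CategoryTheory CategoryTheory.Limits AlgebraicGeometry TopologicalSpace Opposite
open Groth.Agent

namespace Groth.Agent.H1BlowPB

variable {X X' P : Scheme.{u}} {E : X.Modules} (u : E ⟶ Coh.structureModule X)
  {J : X.IdealSheafData} {π : P ⟶ X} {O1 : P.Modules} {q : (Scheme.Modules.pullback π).obj E ⟶ O1}
  {f : X' ⟶ X} {j : X' ⟶ P}

/-- The value of the cosection. -/
abbrev val {U : X.Opens} (s : Γ(E, U)) : Γ(X, U) := (show Γ(X, U) from u.app U s)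

/-- The inverse image of a chart. -/
abbrev pre (j : X' ⟶ P) {n : ℕ} {U : X.Opens} (q : (Scheme.Modules.pullback π).obj E ⟶ O1)
    (σ : Fin (n + 1) → Γ(E, U)) (i : Fin (n + 1)) : X'.Opens :=
  j ⁻¹ᵁ EulerPB.Dset q σ i

section Key

variable (hjπ : j ≫ π = f)
  (e : (Scheme.Modules.pullback j).obj O1 ≅ ClSub.idealMod (BlowUp.exceptional f J))
  (hcomp : (Scheme.Modules.pullbackCongr hjπ).inv.app E ≫ (Scheme.Modules.pullbackComp j π).inv.app E ≫
      (Scheme.Modules.pullback j).map q ≫ e.hom ≫ ClSub.idealModι (BlowUp.exceptional f J) =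
    (Scheme.Modules.pullback f).map u ≫
      ((Scheme.Modules.pullbackPushforwardAdjunction f).homEquiv _ _).symm
        (SheafOfModules.unitToPushforwardObjUnit f.toRingCatSheafHom))
include hcomp

/-- The tautological sections go to the values of the cosection. -/
lemma key_eq {U : X.Opens} (s : Γ(E, U)) (W : X'.Opens) (hW : W ≤ f ⁻¹ᵁ U) (hW' : W ≤ j ⁻¹ᵁ (π ⁻¹ᵁ U)) :
    OmegaSh.idealSect (BlowUp.exceptional f J) W
      (e.hom.app W (QCoh.pullSec j O1 hW' (q.app (π ⁻¹ᵁ U) (InvX.pullElt π s)))) =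
      f.appLE U W hW (val u s) := by
  subst hjπ
  have hφ : (((Scheme.Modules.pullbackPushforwardAdjunction (j ≫ π)).homEquiv _ _).symm
        (SheafOfModules.unitToPushforwardObjUnit (j ≫ π).toRingCatSheafHom)).app W
        (((Scheme.Modules.pullback (j ≫ π)).map u).app W (QCoh.pullSec (j ≫ π) E hW s)) =
      (show Γ(Coh.structureModule X', W) from (j ≫ π).appLE U W hW (val u s)) := by
    rw [ExistEasy.pullSec_natural]
    have h1 := Boundary.pullback_adjunct_pullElt (j ≫ π)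
      (SheafOfModules.unitToPushforwardObjUnit (j ≫ π).toRingCatSheafHom) (u.app U s)
    show (((Scheme.Modules.pullbackPushforwardAdjunction (j ≫ π)).homEquiv _ _).symm _).app W
      (AModX.res _ hW (InvX.pullElt (j ≫ π) (u.app U s))) = _
    rw [AModX.app_res, h1]
    rfl
  refine Eq.trans ?_ hφ
  rw [← IdealSub.idealModι_app']
  refine Eq.trans ?_ (congr(($hcomp).app W (QCoh.pullSec (j ≫ π) E hW s)))
  show (ClSub.idealModι _).app W (e.hom.app W _) = (ClSub.idealModι _).app W (e.hom.app W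
    (((Scheme.Modules.pullback j).map q).app W (((Scheme.Modules.pullbackComp j π).inv.app E).app W
      (((Scheme.Modules.pullbackCongr (rfl : j ≫ π = j ≫ π)).inv.app E).app W (QCoh.pullSec (j ≫ π) E hW s)))))
  refine congrArg _ (congrArg _ ?_)
  have h0 : ((Scheme.Modules.pullbackCongr (rfl : j ≫ π = j ≫ π)).inv.app E).app W
      (QCoh.pullSec (j ≫ π) E hW s) = QCoh.pullSec (j ≫ π) E hW s := rfl
  have h1 : ((Scheme.Modules.pullbackComp j π).inv.app E).app W (QCoh.pullSec (j ≫ π) E hW s) =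
      QCoh.pullSec j ((Scheme.Modules.pullback π).obj E) hW' (QCoh.pullSec π E le_rfl s) := by
    refine Eq.trans (congrArg _ (ExistEasy.pullSec_comp j π E le_rfl hW' s).symm) ?_
    exact congrArg (fun φ => Scheme.Modules.Hom.app φ W (QCoh.pullSec j ((Scheme.Modules.pullback π).obj E) hW'
      (QCoh.pullSec π E le_rfl s))) ((Scheme.Modules.pullbackComp j π).hom_inv_id_app E)
  rw [h0, h1, ExistEasy.pullSec_natural, EulerPB.pullSec_self]

variable (hf : BlowUp.IsBlowUp f J) {n : ℕ} {U : X.Opens} (σ : Fin (n + 1) → Γ(E, U)) (i : Fin (n + 1))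

include hjπ in
omit hcomp in
lemma pre_le : pre j q σ i ≤ f ⁻¹ᵁ U := fun z hz => by
  subst hjπ
  exact EulerPB.D_le q σ i hz

/-- The trivialisation on the chart. -/
def tP : Γ(ClSub.idealMod (BlowUp.exceptional f J), pre j q σ i) :=
  e.hom.app _ (InvX.pullElt j (AModX.res O1 (EulerPB.D_le q σ i) (EulerPB.tc q σ i)))

omit hcomp in
lemma isFrame_tP : InvX.IsFrame (tP (q := q) e σ i) :=
  (InvX.isFrame_pullElt j (EulerPB.isFrame_tD q σ i)).map_iso e

include hjπ in
/-- The coordinates on the chart. -/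
lemma appLE_crd (l : Fin (n + 1)) :
    f.appLE U (pre j q σ i) (pre_le hjπ σ i) (val u (σ l)) =
      j.app (EulerPB.Dset q σ i) (EulerPB.crd q σ i l) *
        OmegaSh.idealSect (BlowUp.exceptional f J) _ (tP (q := q) e σ i) := by
  have hW' : pre j q σ i ≤ j ⁻¹ᵁ (π ⁻¹ᵁ U) := j.preimage_mono (EulerPB.D_le q σ i)
  rw [← key_eq u hjπ e hcomp (σ l) (pre j q σ i) (pre_le hjπ σ i) hW']
  rw [show QCoh.pullSec j O1 hW' (q.app (π ⁻¹ᵁ U) (InvX.pullElt π (σ l))) =
      InvX.pullElt j (AModX.res O1 (EulerPB.D_le q σ i) (EulerPB.tc q σ l)) from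
    InvX.res_pullElt j (EulerPB.D_le q σ i) (EulerPB.tc q σ l)]
  rw [EulerPB.res_tc, InvX.pullElt_smul, Scheme.Modules.Hom.app_smul, OmegaLib.idealSect_smul]
  rfl

include hjπ in
/-- The pivot is the value of the frame. -/
lemma appLE_pivot :
    f.appLE U (pre j q σ i) (pre_le hjπ σ i) (val u (σ i)) =
      OmegaSh.idealSect (BlowUp.exceptional f J) _ (tP (q := q) e σ i) := by
  rw [appLE_crd u hjπ e hcomp σ i i, EulerPB.crd_self, map_one, one_mul]

include hjπ in
lemma pivot_nzd :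
    f.appLE U (pre j q σ i) (pre_le hjπ σ i) (val u (σ i)) ∈ nonZeroDivisors Γ(X', pre j q σ i) := by
  rw [appLE_pivot u hjπ e hcomp σ i]
  refine mem_nonZeroDivisors_iff_right.2 fun r h => ?_
  refine (isFrame_tP (q := q) e σ i).coord_unique le_rfl ?_
  rw [AModX.res_self, zero_smul]
  refine OmegaLib.idealSect_injective _ _ ?_
  rw [OmegaLib.idealSect_smul, h, OmegaSh.idealSect_apply, map_zero]
  rfl

section Affine

variable (hU : IsAffineOpen U) (hJU : J.ideal ⟨U, hU⟩ = Ideal.span (Set.range fun l => val u (σ l)))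
  (hO1 : PicF.IsInvertible O1)

/-- The pivot, in the ideal. -/
def piv : (J.ideal ⟨U, hU⟩ : Ideal Γ(X, U)) :=
  ⟨val u (σ i), hJU ▸ Ideal.subset_span ⟨i, rfl⟩⟩

/-- The affine chart. -/
abbrev B : CommRingCat.{u} := CommRingCat.of (BlowUp.affineAlgebra Γ(X, U) (J.ideal ⟨U, hU⟩) (val u (σ i)))

/-- Its structure map. -/
def gB : Spec (B u σ i hU (J := J)) ⟶ X :=
  Spec.map (CommRingCat.ofHom (algebraMap Γ(X, U) (B u σ i hU (J := J)))) ≫ hU.fromSpec

omit hcomp in
lemma gB_le : (⊤ : (Spec (B u σ i hU (J := J))).Opens) ≤ gB u σ i hU (J := J) ⁻¹ᵁ U := fun z _ => by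
  show hU.fromSpec _ ∈ (U : Set X)
  rw [← hU.range_fromSpec]
  exact ⟨_, rfl⟩

omit hcomp in
lemma gB_appLE (a : Γ(X, U)) : (gB u σ i hU (J := J)).appLE U ⊤ (gB_le u σ i hU) a =
    (Scheme.ΓSpecIso (B u σ i hU (J := J))).inv (algebraMap Γ(X, U) _ a) := by
  have h0 : (⊤ : (Spec Γ(X, U)).Opens) ≤ hU.fromSpec ⁻¹ᵁ U := hU.fromSpec_preimage_self.ge
  have h : hU.fromSpec.appLE U ⊤ h0 = (Scheme.ΓSpecIso Γ(X, U)).inv := by
    rw [Scheme.Hom.appLE, hU.fromSpec_app_self, Category.assoc, ← Functor.map_comp]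
    exact (congrArg (_ ≫ ·) ((Spec Γ(X, U)).presheaf.map_id _)).trans (Category.comp_id _)
  let c := CommRingCat.ofHom (algebraMap Γ(X, U) (B u σ i hU (J := J)))
  have h1 : (gB u σ i hU (J := J)).appLE U ⊤ (gB_le u σ i hU) =
      hU.fromSpec.appLE U ⊤ h0 ≫ (Spec.map c).appTop := by
    rw [Scheme.Hom.appTop, Scheme.Hom.app_eq_appLE, Scheme.Hom.appLE_comp_appLE]
    rfl
  rw [h1, h]
  exact (ConcreteCategory.congr_hom (Scheme.ΓSpecIso_inv_naturality c) a).symm

include hJU in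
omit hcomp in
lemma gB_ideal :
    (J.comap (gB u σ i hU (J := J))).ideal ⟨⊤, isAffineOpen_top _⟩ =
      Ideal.span {(gB u σ i hU (J := J)).appLE U ⊤ (gB_le u σ i hU) (val u (σ i))} := by
  rw [ModPairLib.ideal_comap J _ ⟨U, hU⟩ ⟨⊤, isAffineOpen_top _⟩ (gB_le u σ i hU)]
  refine le_antisymm (Ideal.map_le_iff_le_comap.2 fun x hx => ?_) ?_
  · show (gB u σ i hU (J := J)).appLE U ⊤ (gB_le u σ i hU) x ∈
      Ideal.span {(gB u σ i hU (J := J)).appLE U ⊤ (gB_le u σ i hU) (val u (σ i))}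
    rw [gB_appLE, gB_appLE]
    refine Ideal.mem_span_singleton'.2
      ⟨(Scheme.ΓSpecIso (B u σ i hU (J := J))).inv (BlowUpLib.frac _ ⟨x, hx⟩ (piv u σ i hU hJU)), ?_⟩
    rw [← map_mul]
    exact congrArg _ (BlowUpLib.frac_mul _ ⟨x, hx⟩ (piv u σ i hU hJU))
  · rw [Ideal.span_singleton_le_iff_mem]
    exact Ideal.mem_map_of_mem _ (piv u σ i hU hJU).2

include hJU in
omit hcomp in
lemma gB_effCartier : BlowUp.IsEffCartierIdeal (J.comap (gB u σ i hU (J := J))) := fun z =>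
  ⟨⟨⊤, isAffineOpen_top _⟩, trivial, _, by
    rw [gB_appLE]
    let e' := (Scheme.ΓSpecIso (B u σ i hU (J := J))).commRingCatIsoToRingEquiv.symm
    refine mem_nonZeroDivisors_iff_right.2 fun r hr => ?_
    obtain ⟨r₀, rfl⟩ := e'.surjective r
    change e' r₀ * e' _ = 0 at hr
    rw [← map_mul, RingEquiv.map_eq_zero_iff] at hr
    rw [RingEquiv.map_eq_zero_iff]
    refine Subtype.ext ?_
    have h := congrArg Subtype.val hr
    refine (IsLocalization.Away.algebraMap_isUnit (S := Localization.Away (val u (σ i))) (val u (σ i))).mul_left_eq_zero.1 ?_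
    exact h, gB_ideal u σ i hU hJU⟩

include hjπ hO1 hJU hf in
/-- The affine chart lands in the chart of the projective bundle. -/
lemma exists_lift : ∃ (h : Spec (B u σ i hU (J := J)) ⟶ X'),
    h ≫ f = gB u σ i hU (J := J) ∧ ∀ z, h z ∈ pre j q σ i := by
  obtain ⟨h, hh, -⟩ := hf.2 _ _ (gB_effCartier u σ i hU hJU)
  refine ⟨h, hh, fun z => ?_⟩
  have hzU : h z ∈ f ⁻¹ᵁ U := by
    show (h ≫ f) z ∈ U
    rw [hh]; exact gB_le u σ i hU trivial
  obtain ⟨W₁, hyW₁, η, hη⟩ := InvX.exists_frame hO1 (j (h z))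
  have hyU : j (h z) ∈ π ⁻¹ᵁ U := by
    show (j ≫ π) (h z) ∈ U
    rw [hjπ]; exact hzU
  let W₂ := W₁ ⊓ π ⁻¹ᵁ U
  have hη₂ : InvX.IsFrame (AModX.res O1 (inf_le_left : W₂ ≤ W₁) η) := hη.res _
  obtain ⟨c, hc⟩ := hη₂.exists_coord le_rfl (AModX.res O1 (inf_le_right : W₂ ≤ π ⁻¹ᵁ U) (EulerPB.tc q σ i))
  rw [AModX.res_self] at hc
  obtain ⟨W, hW, hzW, hWle⟩ := exists_isAffineOpen_mem_and_subset
    (x := h z) (U := j ⁻¹ᵁ W₂) ⟨hyW₁, hyU⟩
  have hWU : W ≤ f ⁻¹ᵁ U := fun w hw => by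
    have h2 : (j ≫ π) w ∈ U := (hWle hw).2
    rwa [hjπ] at h2
  let ε := e.hom.app W (AModX.res _ hWle (InvX.pullElt j (AModX.res O1 (inf_le_left : W₂ ≤ W₁) η)))
  have hε : InvX.IsFrame ε := ((InvX.isFrame_pullElt j hη₂).res hWle).map_iso e
  have hε' := H1KoszSq.ideal_eq_span (V := ⟨W, hW⟩) hε
  let a' := f.appLE U W hWU (val u (σ i))
  have ha' : a' = j.appLE W₂ W hWle c * OmegaSh.idealSect (BlowUp.exceptional f J) W ε := by
    have hW' : W ≤ j ⁻¹ᵁ (π ⁻¹ᵁ U) := fun w hw => (hWle hw).2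
    rw [show a' = _ from (key_eq u hjπ e hcomp (σ i) W hWU hW').symm]
    rw [show QCoh.pullSec j O1 hW' (q.app (π ⁻¹ᵁ U) (InvX.pullElt π (σ i))) =
        AModX.res _ hWle (InvX.pullElt j (AModX.res O1 (inf_le_right : W₂ ≤ π ⁻¹ᵁ U) (EulerPB.tc q σ i))) by
      rw [← InvX.res_pullElt j (inf_le_right : W₂ ≤ π ⁻¹ᵁ U), AModX.res_res]
      rfl]
    rw [hc, InvX.pullElt_smul, AModX.res_smul, Scheme.Modules.Hom.app_smul, OmegaLib.idealSect_smul]
    rfl
  obtain ⟨V, hV, hzV, hVle⟩ := exists_isAffineOpen_mem_and_subset (x := z) (U := h ⁻¹ᵁ W) hzW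
  let g := gB u σ i hU (J := J)
  have hVU : V ≤ g ⁻¹ᵁ U := fun w _ => gB_le u σ i hU trivial
  let aV := g.appLE U V hVU (val u (σ i))
  have hI₁ : (J.comap g).ideal ⟨V, hV⟩ = Ideal.span {aV} := by
    rw [← (J.comap g).map_ideal (U := ⟨V, hV⟩) (V := ⟨⊤, isAffineOpen_top _⟩) (show V ≤ ⊤ from le_top), gB_ideal u σ i hU hJU,
      Ideal.map_span, Set.image_singleton]
    refine congrArg (fun t => Ideal.span {t}) ?_
    exact ConcreteCategory.congr_hom (Scheme.Hom.appLE_map g (gB_le u σ i hU) (homOfLE (le_top : V ≤ ⊤)).op) _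
  have hI₂ : (J.comap g).ideal ⟨V, hV⟩ =
      Ideal.span {h.appLE W V hVle (OmegaSh.idealSect (BlowUp.exceptional f J) W ε)} := by
    rw [show J.comap g = (BlowUp.exceptional f J).comap h by
        rw [BlowUp.exceptional, ← Scheme.IdealSheafData.comap_comp, hh],
      ModPairLib.ideal_comap _ h ⟨W, hW⟩ ⟨V, hV⟩ hVle, hε', Ideal.map_span, Set.image_singleton]
  have haV : aV = h.appLE W V hVle (j.appLE W₂ W hWle c) *
      h.appLE W V hVle (OmegaSh.idealSect (BlowUp.exceptional f J) W ε) := by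
    rw [← map_mul, ← ha']
    show _ = (f.appLE U W hWU ≫ h.appLE W V hVle) (val u (σ i))
    rw [Scheme.Hom.appLE_comp_appLE]
    simp only [hh]
    rfl
  have hnz := ModPairLib.generator_mem_nonZeroDivisors (gB_effCartier u σ i hU hJU) hI₁
  obtain ⟨r, hr⟩ := Ideal.mem_span_singleton'.1 (show h.appLE W V hVle (OmegaSh.idealSect _ W ε) ∈
    Ideal.span {aV} by rw [← hI₁, hI₂]; exact Ideal.mem_span_singleton_self _)
  have hunit : IsUnit (h.appLE W V hVle (j.appLE W₂ W hWle c)) := by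
    refine IsUnit.of_mul_eq_one r (sub_eq_zero.1 (mem_nonZeroDivisors_iff_right.1 hnz _ ?_))
    rw [sub_mul, mul_assoc, hr, one_mul, ← haV, sub_self]
  have hb : P.basicOpen c ≤ EulerPB.Dset q σ i := EulerPB.le_D q σ i ((P.basicOpen_le c).trans inf_le_right) (by
    have h2 := congrArg (AModX.res O1 (P.basicOpen_le c)) hc
    rw [AModX.res_res, AModX.res_smul] at h2
    rw [h2]
    exact (hη₂.res _).isUnit_smul (AModX.isUnit_resR _ _ le_rfl))
  show j (h z) ∈ EulerPB.Dset q σ i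
  refine hb ?_
  have hVW₂ : V ≤ (h ≫ j) ⁻¹ᵁ W₂ := fun w hw => hWle (hVle hw)
  have hunit' : IsUnit ((h ≫ j).appLE W₂ V hVW₂ c) := by
    rw [show (h ≫ j).appLE W₂ V hVW₂ = j.appLE W₂ W hWle ≫ h.appLE W V hVle from
      (Scheme.Hom.appLE_comp_appLE _ _ _ _ _ _ _).symm]
    exact hunit
  have hb2 : V ≤ (Spec (B u σ i hU (J := J))).basicOpen ((h ≫ j).appLE W₂ V hVW₂ c) :=
    (Scheme.basicOpen_of_isUnit _ hunit').ge
  rw [← Scheme.Hom.comp_apply]
  show z ∈ (h ≫ j) ⁻¹ᵁ P.basicOpen c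
  have h3 := hb2 hzV
  rw [Scheme.Hom.appLE, CommRingCat.comp_apply, Scheme.basicOpen_res] at h3
  rw [Scheme.preimage_basicOpen]
  exact h3.2

include hjπ hO1 hJU hf in
/-- The chart of the blowing up. -/
theorem exists_chart :
    IsAffineOpen (pre j q σ i) ∧
    ∃ ψ : BlowUp.affineAlgebra Γ(X, U) (J.ideal ⟨U, hU⟩) (val u (σ i)) →+* Γ(X', pre j q σ i),
      Function.Bijective ψ ∧
      ψ.comp (algebraMap Γ(X, U) _) = (f.appLE U (pre j q σ i) (pre_le hjπ σ i)).hom := by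
  let D := pre j q σ i
  let φ := (f.appLE U D (pre_le hjπ σ i)).hom
  have hnz := pivot_nzd u hjπ e hcomp σ i
  have hI : (J.ideal ⟨U, hU⟩ : Ideal Γ(X, U)).map φ ≤ Ideal.span {φ (piv u σ i hU hJU : Γ(X, U))} := by
    refine (Ideal.map_mono hJU.le).trans ?_
    rw [Ideal.map_span, Ideal.span_le]
    rintro _ ⟨_, ⟨l, rfl⟩, rfl⟩
    show f.appLE U D _ (val u (σ l)) ∈ Ideal.span {f.appLE U D _ (val u (σ i))}
    rw [appLE_crd u hjπ e hcomp σ i l, appLE_pivot u hjπ e hcomp σ i]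
    exact Ideal.mul_mem_left _ _ (Ideal.mem_span_singleton_self _)
  obtain ⟨ψ, hψ⟩ := BlowUpLib.exists_hom_affineAlgebra (J.ideal ⟨U, hU⟩) (piv u σ i hU hJU) φ hnz hI
  let ψC : B u σ i hU (J := J) ⟶ Γ(X', D) := CommRingCat.ofHom ψ
  let k : D.toScheme ⟶ Spec (B u σ i hU (J := J)) := D.toSpecΓ ≫ Spec.map ψC
  have hk : k ≫ gB u σ i hU (J := J) = D.ι ≫ f := by
    have h1 : CommRingCat.ofHom (algebraMap Γ(X, U) (B u σ i hU (J := J))) ≫ ψC =
        f.appLE U D (pre_le hjπ σ i) := CommRingCat.hom_ext hψ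
    show (D.toSpecΓ ≫ Spec.map ψC) ≫ Spec.map _ ≫ hU.fromSpec = _
    rw [Category.assoc, ← Spec.map_comp_assoc, h1, Scheme.Opens.toSpecΓ_SpecMap_appLE_assoc,
      hU.toSpecΓ_fromSpec, Scheme.Hom.resLE_comp_ι]
  obtain ⟨h, hh, hhD⟩ := exists_lift u hjπ e hcomp hf σ i hU hJU hO1
  let h' : Spec (B u σ i hU (J := J)) ⟶ D.toScheme := IsOpenImmersion.lift D.ι h (by
    rw [Scheme.Opens.range_ι]; rintro _ ⟨z, rfl⟩; exact hhD z)
  have hh' : h' ≫ D.ι = h := IsOpenImmersion.lift_fac _ _ _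
  have hcD : BlowUp.IsEffCartierIdeal (J.comap (D.ι ≫ f)) := by
    rw [Scheme.IdealSheafData.comap_comp]
    exact BlowUpLib.isEffCartier_comap_flat D.ι hf.1
  have hkh : k ≫ h' = 𝟙 _ := by
    rw [← cancel_mono D.ι, Category.assoc, hh', Category.id_comp]
    exact (hf.2 _ _ hcD).unique (by rw [Category.assoc, hh, hk]) rfl
  have hhk : h' ≫ k = 𝟙 _ := by
    obtain ⟨ρ, hρ⟩ := Spec.map_surjective (h' ≫ k)
    have h1 : Spec.map ρ ≫ gB u σ i hU (J := J) = gB u σ i hU (J := J) := by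
      rw [hρ, Category.assoc, hk, reassoc_of% hh', hh]
    simp only [gB, ← Spec.map_comp_assoc] at h1
    rw [cancel_mono] at h1
    have h2 := congrArg CommRingCat.Hom.hom (Spec.map_injective h1)
    rw [← hρ, show ρ = 𝟙 _ from CommRingCat.hom_ext (BlowUpLib.hom_ext_affineAlgebra
      (J.ideal ⟨U, hU⟩) (piv u σ i hU hJU) (φ := algebraMap Γ(X, U) (B u σ i hU (J := J))) h2 rfl ?_), Spec.map_id]
    refine mem_nonZeroDivisors_iff_right.2 fun r hr => Subtype.ext ?_
    exact (IsLocalization.Away.algebraMap_isUnit (S := Localization.Away (val u (σ i))) (val u (σ i))).mul_left_eq_zero.1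
      (congrArg Subtype.val hr)
  haveI : IsIso k := ⟨h', hkh, hhk⟩
  have hD : IsAffineOpen D := IsAffine.of_isIso k
  haveI : IsAffine D.toScheme := hD
  haveI : IsIso D.toSpecΓ := inferInstanceAs (IsIso (_ ≫ _))
  haveI : IsIso (Spec.map ψC) := by
    haveI : IsIso (D.toSpecΓ ≫ Spec.map ψC) := inferInstanceAs (IsIso k)
    exact IsIso.of_isIso_comp_left D.toSpecΓ _
  haveI : IsIso ψC := by
    haveI : IsIso (Scheme.Spec.map ψC.op) := inferInstanceAs (IsIso (Spec.map ψC))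
    haveI := isIso_of_fully_faithful Scheme.Spec ψC.op
    exact isIso_of_op _
  exact ⟨hD, ψ, (ConcreteCategory.isIso_iff_bijective ψC).1 inferInstance, hψ⟩

variable (hE : FlatMod.IsFinLocFree E) (hPB : KRR.IsProjBundle π E O1 q) (hσ : H23.Frame.IsFrame E σ)
  (hex : WiebeLib.IsExact fun l => val u (σ l))

include hjπ hO1 hJU hf hE hPB hσ hex in
/-- On a chart of the projective bundle the immersion is cut out by a Koszul regular sequence. -/
theorem chart_props :
    IsAffineOpen (EulerPB.Dset q σ i) ∧ IsClosedImmersion (j ∣_ EulerPB.Dset q σ i) ∧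
    ∃ rs : List Γ(P, EulerPB.Dset q σ i), rs.length = n ∧ LCI.IsKoszulRegularSeq Γ(P, EulerPB.Dset q σ i) rs ∧
      RingHom.ker (j.app (EulerPB.Dset q σ i)).hom = Ideal.ofList rs := by
  obtain ⟨hD', ψ, hψb, hψ⟩ := exists_chart u hjπ e hcomp hf σ i hU hJU hO1
  have hDaff := EulerPB.isAffineOpen_D q σ i hE hPB hU hσ
  have hPBb := EulerPB.bijective_ψ q σ i hE hPB hU hσ
  let b : Fin n → Γ(X, U) := fun r => val u (σ (i.succAbove r))
  have hcons : (Fin.cons (val u (σ i)) b : Fin (n + 1) → Γ(X, U)) =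
      fun l => val u (σ ((Fin.cons i i.succAbove : Fin (n + 1) → Fin (n + 1)) l)) := funext fun l => by
    induction l using Fin.cases <;> simp [b]
  have hbij : Function.Bijective (Fin.cons i i.succAbove : Fin (n + 1) → Fin (n + 1)) := by
    refine Finite.injective_iff_bijective.1 (Fin.cons_injective_iff.2 ⟨?_, Fin.succAbove_right_injective⟩)
    rintro ⟨r, hr⟩
    exact Fin.succAbove_ne i r hr
  have hexc : WiebeLib.IsExact (Fin.cons (val u (σ i)) b : Fin (n + 1) → Γ(X, U)) := by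
    rw [hcons]; exact BlowLCI.isExact_comp_bijective hex _ hbij
  have hIspan : J.ideal ⟨U, hU⟩ = Ideal.span (Set.range (Fin.cons (val u (σ i)) b : Fin (n + 1) → Γ(X, U))) := by
    rw [hJU, hcons]
    exact congrArg Ideal.span (hbij.2.range_comp (fun l => val u (σ l))).symm
  obtain ⟨hexact, pres, hpres, hker⟩ := BlowLCI.exists_presentation (J.ideal ⟨U, hU⟩) (val u (σ i)) b hIspan hexc
  let ψP : EulerPB.A n U ⟶ Γ(P, EulerPB.Dset q σ i) := EulerPB.ψ q σ i
  have hcompat : (j.app (EulerPB.Dset q σ i)).hom.comp ψP.hom = ψ.comp pres.toRingHom := by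
    refine MvPolynomial.ringHom_ext (fun a => ?_) fun r => ?_
    · show j.app (EulerPB.Dset q σ i) (MvPolynomial.eval₂Hom _ _ (MvPolynomial.C a)) = ψ (pres (MvPolynomial.C a))
      rw [MvPolynomial.eval₂Hom_C, ← MvPolynomial.algebraMap_eq, AlgHom.commutes,
        show ψ (algebraMap _ _ a) = f.appLE U (pre j q σ i) (pre_le hjπ σ i) a from congr($hψ a),
        Scheme.Hom.app_eq_appLE]
      show (π.appLE U _ _ ≫ j.appLE _ _ _) a = _
      rw [Scheme.Hom.appLE_comp_appLE]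
      simp only [hjπ]
    · show j.app (EulerPB.Dset q σ i) (MvPolynomial.eval₂Hom _ _ (MvPolynomial.X r)) = ψ (pres (MvPolynomial.X r))
      rw [MvPolynomial.eval₂Hom_X', ← EulerPB.crd_succAbove]
      have hrel : pres (MvPolynomial.X r) * algebraMap Γ(X, U) _ (val u (σ i)) = algebraMap Γ(X, U) _ (b r) := by
        have h0 : pres (BlowLCI.eqn (val u (σ i)) b r) = 0 := by
          have hm : BlowLCI.eqn (val u (σ i)) b r ∈ RingHom.ker pres.toRingHom := by
            rw [hker]; exact Ideal.subset_span ⟨r, rfl⟩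
          exact hm
        rw [BlowLCI.eqn, map_sub, map_mul, ← MvPolynomial.algebraMap_eq, AlgHom.commutes, AlgHom.commutes,
          sub_eq_zero] at h0
        rw [mul_comm]; exact h0
      refine sub_eq_zero.1 (mem_nonZeroDivisors_iff_right.1 (pivot_nzd u hjπ e hcomp σ i) _ ?_)
      have h1 := congrArg ψ hrel
      rw [map_mul, show ψ (algebraMap _ _ (val u (σ i))) = f.appLE U (pre j q σ i) (pre_le hjπ σ i) (val u (σ i)) from
          congr($hψ (val u (σ i))),
        show ψ (algebraMap _ _ (b r)) = f.appLE U (pre j q σ i) (pre_le hjπ σ i) (b r) from congr($hψ (b r))] at h1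
      rw [sub_mul, h1, appLE_crd u hjπ e hcomp σ i (i.succAbove r), ← appLE_pivot u hjπ e hcomp σ i, sub_self]
  have hsurj : Function.Surjective (j.app (EulerPB.Dset q σ i)) := fun y => by
    obtain ⟨z, hz⟩ := (hψb.2.comp hpres) y
    exact ⟨ψP z, congr($hcompat z).trans hz⟩
  refine ⟨hDaff, ?_, List.ofFn fun r => ψP (BlowLCI.eqn (val u (σ i)) b r), List.length_ofFn, ?_, ?_⟩
  · haveI : IsAffine (EulerPB.Dset q σ i).toScheme := hDaff
    haveI : IsAffine (j ⁻¹ᵁ EulerPB.Dset q σ i).toScheme := hD'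
    refine IsClosedImmersion.of_surjective_of_isAffine _ ?_
    have hs : ∀ O : P.Opens, O = EulerPB.Dset q σ i → Function.Surjective (j.app O) := by
      rintro _ rfl; exact hsurj
    rw [morphismRestrict_appTop]
    show Function.Surjective (_ ∘ j.app _)
    exact (ConcreteCategory.bijective_of_isIso (X'.presheaf.map (eqToHom _).op)).2.comp (hs _ (Scheme.Opens.ι_image_top _))
  · exact KoszulFlatLib.isKoszulRegularSeq_of_isExact
      (BlowLCI.isExact_map_bijective ψP.hom hPBb hexact)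
  · rw [Ideal.ofList]
    have h1 : RingHom.ker (ψ.comp pres.toRingHom) = RingHom.ker pres.toRingHom := by
      ext x
      exact ⟨fun h => hψb.1 (h.trans (map_zero ψ).symm), fun h => by
        show ψ (pres x) = 0
        rw [show pres x = 0 from h, map_zero]⟩
    have h2 : RingHom.ker (j.app (EulerPB.Dset q σ i)).hom =
        (RingHom.ker ((j.app (EulerPB.Dset q σ i)).hom.comp ψP.hom)).map ψP.hom := by
      rw [← RingHom.comap_ker]
      exact (Ideal.map_comap_of_surjective _ hPBb.2 _).symm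
    rw [h2, hcompat, h1, hker, Ideal.map_span, ← Set.range_comp]
    refine congrArg Ideal.span (Set.ext fun x => ?_)
    simp [List.mem_ofFn, eq_comm]

end Affine

end Key

end Groth.Agent.H1BlowPB
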