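import Mathlib
import Groth.Agent.H23.Frame
import Groth.Agent.AModX.Res
import Groth.Agent.QCoh.Sections
import Groth.Agent.S15899

/-!
# A basis of the sections over an affine open is a frame
-/

noncomputable section

set_option linter.style.haveILetI false
set_option backward.isDefEq.respectTransparency false
set_option backward.isDefEq.respectTransparency.types false

universe u

open CategoryTheory CategoryTheory.Limits AlgebraicGeometry TopologicalSpace Opposite

namespace Groth.Agent.H1BlowPB

variable {X : Scheme.{u}} {M : X.Modules} {n : ℕ}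

lemma res_comb {U W W' : X.Opens} (s : Fin n → Γ(M, U)) (h : W ≤ U) (h' : W' ≤ W) (c : Fin n → Γ(X, W)) :
    AModX.res M h' (H23.Frame.comb M s W h c) =
      H23.Frame.comb M s W' (h'.trans h) fun i => AModX.resR h' (c i) := by
  simp only [H23.Frame.comb, map_sum, AModX.res_smul]
  exact Finset.sum_congr rfl fun i _ => congrArg (_ • ·) (AModX.res_res _ _ _)

lemma bijective_basicOpen (hM : Coh.IsQCoh M) {U : X.Opens} (hU : IsAffineOpen U)
    (b : Module.Basis (Fin n) Γ(X, U) Γ(M, U)) (g : Γ(X, U)) :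
    Function.Bijective (H23.Frame.comb M (fun i => b i) (X.basicOpen g) (X.basicOpen_le g)) := by
  letI := QCoh.basicModule g M
  haveI : IsScalarTower Γ(X, U) Γ(X, X.basicOpen g) Γ(M, X.basicOpen g) :=
    IsScalarTower.of_algebraMap_smul fun _ _ => rfl
  have hbc := Groth.Agent.FittX.isBaseChange_basicRes hM hU g
  let b' := (b.baseChange Γ(X, X.basicOpen g)).map hbc.equiv
  have hb' : ∀ i, b' i = AModX.res M (X.basicOpen_le g) (b i) := fun i => by
    rw [Module.Basis.map_apply, Module.Basis.baseChange_apply, IsBaseChange.equiv_tmul, one_smul]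
    rfl
  have h : H23.Frame.comb M (fun i => b i) (X.basicOpen g) (X.basicOpen_le g) = b'.equivFun.symm := by
    funext c
    rw [Module.Basis.equivFun_symm_apply]
    refine Finset.sum_congr rfl fun i _ => ?_
    rw [hb']
    rfl
  rw [h]
  exact b'.equivFun.symm.bijective

/-- A basis over an affine open is a frame. -/
theorem isFrame_basis (hM : Coh.IsQCoh M) {U : X.Opens} (hU : IsAffineOpen U)
    (b : Module.Basis (Fin n) Γ(X, U) Γ(M, U)) : H23.Frame.IsFrame M fun i => b i := by
  intro W hW
  have hinj : ∀ (W : X.Opens) (hW : W ≤ U), Function.Injective (H23.Frame.comb M (fun i => b i) W hW) := by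
    intro W hW c c' hcc
    funext i
    refine TopCat.Sheaf.eq_of_locally_eq' X.sheaf (fun p : W => X.basicOpen
      (hU.exists_basicOpen_le (V := W) p (hW p.2)).choose) W
      (fun p => homOfLE (hU.exists_basicOpen_le (V := W) p (hW p.2)).choose_spec.1)
      (fun p hp => Opens.mem_iSup.2 ⟨⟨p, hp⟩, (hU.exists_basicOpen_le (V := W) ⟨p, hp⟩ (hW hp)).choose_spec.2⟩)
      _ _ fun p => ?_
    have hle := (hU.exists_basicOpen_le (V := W) p (hW p.2)).choose_spec.1
    have h := congrArg (AModX.res M hle) hcc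
    rw [res_comb, res_comb] at h
    exact congrFun ((bijective_basicOpen hM hU b _).1 h) i
  refine ⟨hinj W hW, fun z => ?_⟩
  choose g hg hpg using fun p : W => hU.exists_basicOpen_le (V := W) p (hW p.2)
  choose c hc using fun p : W => (bijective_basicOpen hM hU b (g p)).2 (AModX.res M (hg p) z)
  have hagree : ∀ (i : Fin n) (p p' : W),
      AModX.resR (inf_le_left : X.basicOpen (g p) ⊓ X.basicOpen (g p') ≤ _) (c p i) =
        AModX.resR (inf_le_right : X.basicOpen (g p) ⊓ X.basicOpen (g p') ≤ _) (c p' i) := fun i p p' => by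
    refine congrFun (hinj (X.basicOpen (g p) ⊓ X.basicOpen (g p')) (inf_le_left.trans ((hg p).trans hW))
      (a₁ := fun i => AModX.resR inf_le_left (c p i)) (a₂ := fun i => AModX.resR inf_le_right (c p' i)) ?_) i
    rw [← res_comb _ (X.basicOpen_le (g p)) inf_le_left, ← res_comb _ (X.basicOpen_le (g p')) inf_le_right,
      hc, hc, AModX.res_res, AModX.res_res]
  have hglue : ∀ i, ∃ t : Γ(X, W), ∀ p, AModX.resR (hg p) t = c p i := fun i => by
    obtain ⟨t, ht, -⟩ := X.sheaf.existsUnique_gluing' (fun p : W => X.basicOpen (g p)) W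
      (fun p => homOfLE (hg p)) (fun p hp => Opens.mem_iSup.2 ⟨⟨p, hp⟩, hpg ⟨p, hp⟩⟩) (fun p => c p i)
      (fun p p' => hagree i p p')
    exact ⟨t, ht⟩
  choose t ht using hglue
  refine ⟨t, AModX.eq_of_locally _ _ fun p hp => ⟨X.basicOpen (g ⟨p, hp⟩), hg ⟨p, hp⟩, hpg ⟨p, hp⟩, ?_⟩⟩
  rw [res_comb, ← hc ⟨p, hp⟩]
  congr 1
  funext i
  exact ht i ⟨p, hp⟩

end Groth.Agent.H1BlowPB
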