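import Groth.Agent.H1BlowPB.Chart
import Groth.Agent.KoszulFlatLib.OfExact
import Groth.Agent.QCoh.LocFree

/-!
# The blowing up as a Koszul regular closed subscheme of the projective bundle
-/

noncomputable section

set_option linter.style.haveILetI false
set_option linter.unusedSectionVars false
set_option backward.isDefEq.respectTransparency false
set_option backward.isDefEq.respectTransparency.types false

universe u

open CategoryTheory CategoryTheory.Limits AlgebraicGeometry TopologicalSpace Opposite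
open Groth.Agent

namespace Groth.Agent.H1BlowPB

variable {X : Scheme.{u}} {E : X.Modules}

lemma linearCombination_eq_comb {n : ℕ} {U W : X.Opens} (s : Fin n → Γ(E, U)) (h : W ≤ U) :
    ⇑(Fintype.linearCombination Γ(X, W) fun i => AModX.res E h (s i)) = H23.Frame.comb E s W h := by
  funext c
  rw [Fintype.linearCombination_apply]
  rfl

/-- Two frames over a nonempty open have the same size. -/
lemma frame_size {n c : ℕ} {U V : X.Opens} {s : Fin n → Γ(E, U)} {t : Fin c → Γ(E, V)}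
    (hs : H23.Frame.IsFrame E s) (ht : H23.Frame.IsFrame E t) {x : X} (hxU : x ∈ U) (hxV : x ∈ V) : n = c := by
  haveI : Nontrivial Γ(X, U ⊓ V) :=
    (X.presheaf.germ (U ⊓ V) x ⟨hxU, hxV⟩).hom.domain_nontrivial
  have h1 : Function.Bijective (Fintype.linearCombination Γ(X, U ⊓ V) fun i => AModX.res E (inf_le_left : U ⊓ V ≤ U) (s i)) := by
    rw [linearCombination_eq_comb]; exact hs _ _
  have h2 : Function.Bijective (Fintype.linearCombination Γ(X, U ⊓ V) fun i => AModX.res E (inf_le_right : U ⊓ V ≤ V) (t i)) := by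
    rw [linearCombination_eq_comb]; exact ht _ _
  have e := ((LinearEquiv.ofBijective _ h1).trans (LinearEquiv.ofBijective _ h2).symm).finrank_eq
  simpa using e

variable {X' P : Scheme.{u}} {J : X.IdealSheafData} {π : P ⟶ X} {O1 : P.Modules}
  {q : (Scheme.Modules.pullback π).obj E ⟶ O1} {f : X' ⟶ X} {j : X' ⟶ P}
  (u : E ⟶ Coh.structureModule X) (hE : FlatMod.IsFinLocFree E)
  (hu : ∀ x : X, ∃ U : X.affineOpens, x ∈ U.1 ∧
    ∃ (n : ℕ) (b : Module.Basis (Fin n) Γ(X, U.1) (E.val.obj (op U.1))),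
      LCI.IsKoszulRegularSeq Γ(X, U.1) (List.ofFn fun k => ((u.val.app (op U.1)).hom (b k) : Γ(X, U.1))))
  (hJ : ∀ U : X.affineOpens, J.ideal U = @Ideal.span Γ(X, U.1) _
    (Set.range fun s : E.val.obj (op U.1) => ((u.val.app (op U.1)).hom s : Γ(X, U.1))))
  (hP : KRR.IsProjBundle π E O1 q) (hf : BlowUp.IsBlowUp f J) (hjπ : j ≫ π = f)
  (e : (Scheme.Modules.pullback j).obj O1 ≅ ClSub.idealMod (BlowUp.exceptional f J))
  (hcomp : (Scheme.Modules.pullbackCongr hjπ).inv.app E ≫ (Scheme.Modules.pullbackComp j π).inv.app E ≫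
      (Scheme.Modules.pullback j).map q ≫ e.hom ≫ ClSub.idealModι (BlowUp.exceptional f J) =
    (Scheme.Modules.pullback f).map u ≫
      ((Scheme.Modules.pullbackPushforwardAdjunction f).homEquiv _ _).symm
        (SheafOfModules.unitToPushforwardObjUnit f.toRingCatSheafHom))

include hE hu hJ hP hf e hcomp in
/-- Around every point of the projective bundle. -/
theorem exists_nhd (p : P) :
    ∃ (U : X.affineOpens) (n : ℕ) (s : Fin (n + 1) → Γ(E, U.1)) (D : P.affineOpens),
      H23.Frame.IsFrame E s ∧ π p ∈ U.1 ∧ p ∈ D.1 ∧ IsClosedImmersion (j ∣_ D.1) ∧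
      ∃ rs : List Γ(P, D.1), rs.length = n ∧ LCI.IsKoszulRegularSeq Γ(P, D.1) rs ∧
        RingHom.ker (j.app D.1).hom = Ideal.ofList rs := by
  obtain ⟨U, hpU, m, b, hb⟩ := hu (π p)
  have hσ : H23.Frame.IsFrame E fun l => b l := isFrame_basis (QCoh.isQCoh_of_isFinLocFree hE) U.2 b
  obtain ⟨i, W, hW, hpW, hfr⟩ := EulerPB.exists_index hE hP hσ hpU
  match m, i with
  | 0, i => exact i.elim0
  | n + 1, i =>
    have hJU : J.ideal U = Ideal.span (Set.range fun l => val u (b l)) := by
      rw [hJ U]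
      refine le_antisymm (Ideal.span_le.2 ?_) (Ideal.span_mono ?_)
      · rintro _ ⟨s, rfl⟩
        show ((u.val.app (op U.1)).hom s : Γ(X, U.1)) ∈ _
        rw [← b.sum_repr s, map_sum]
        refine Ideal.sum_mem _ fun l _ => ?_
        rw [map_smul]
        exact Ideal.mul_mem_left _ _ (Ideal.subset_span ⟨l, rfl⟩)
      · rintro _ ⟨l, rfl⟩
        exact ⟨b l, rfl⟩
    have hex : WiebeLib.IsExact fun l => val u (b l) := WiebeLib.isExact_of_isKoszulRegularSeq _ hb
    obtain ⟨hD, hcl, rs, hlen, hrs, hker⟩ := chart_props u hjπ e hcomp hf (fun l => b l) i U.2 hJU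
      (EulerPB.inv_O1 hP) hE hP hσ hex
    exact ⟨U, n, fun l => b l, ⟨_, hD⟩, hσ, hpU, EulerPB.le_D q (fun l => b l) i hW hfr hpW, hcl, rs, hlen, hrs, hker⟩

include hE hu hJ hP hf e hcomp in
theorem isClosedImmersion_j : IsClosedImmersion j := by
  choose U n s D hs hpU hpD hcl _ using exists_nhd u hE hu hJ hP hf hjπ e hcomp
  exact IsZariskiLocalAtTarget.of_iSup_eq_top (fun p => (D p).1)
    (top_le_iff.1 fun p _ => Opens.mem_iSup.2 ⟨p, hpD p⟩) hcl

include hE hu hJ hP hf e hcomp in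
theorem isRegularImmersion_j : RegImm.IsRegularImmersion .koszul j := by
  haveI := isClosedImmersion_j u hE hu hJ hP hf hjπ e hcomp
  refine ⟨inferInstance, fun z => ?_⟩
  obtain ⟨U, n, s, D, -, -, hzD, hcl, rs, -, hrs, hker⟩ := exists_nhd u hE hu hJ hP hf hjπ e hcomp (j z)
  exact ⟨D, hzD, hcl, rs, hrs, hker⟩

include hE hu hJ hP hf e hcomp in
theorem isRegularImmersionOfCodim_j (c : ℕ) (hEc : FlatMod.IsFinLocFreeOfRank c E) :
    RegImm.IsRegularImmersionOfCodim .koszul (c - 1) j := by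
  haveI := isClosedImmersion_j u hE hu hJ hP hf hjπ e hcomp
  refine ⟨inferInstance, fun z => ?_⟩
  obtain ⟨U, n, s, D, hs, hzU, hzD, hcl, rs, hlen, hrs, hker⟩ := exists_nhd u hE hu hJ hP hf hjπ e hcomp (j z)
  obtain ⟨V, hzV, ⟨φ⟩⟩ := hEc (π (j z))
  obtain ⟨t, ht⟩ := H23.Frame.exists_frame φ
  have := frame_size hs ht hzU hzV
  exact ⟨D, hzD, hcl, rs, by omega, hrs, hker⟩

end Groth.Agent.H1BlowPB
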